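import Groth.Agent.Stk19b.OpenSub.Restrict
import Groth.Agent.Stk19b.Boot.Corollaries
import Groth.Agent.Stk19.AlgSt.UnivTop

/-! The largest open substack on which a representable morphism has a property: morphisms of spaces. -/

set_option autoImplicit false
set_option linter.style.haveILetI false
set_option backward.isDefEq.respectTransparency false
set_option backward.isDefEq.respectTransparency.types false

universe u

open CategoryTheory CategoryTheory.Limits AlgebraicGeometry Opposite FibCat Groth.Agent.Stk19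

namespace Groth.Agent.Stk19b.LargestRep

variable {S : Scheme.{u}} {𝒳 𝒳' 𝒴 𝒴' 𝒵 : AlgSt.Cat S} {P Q R : MorphismProperty (AlgSp.Sp S)}

local notation "AS" => AlgSt.IsAlgStack Scheme.fppfPrecoverage

theorem schemeTested_of_local (hP : AlgSp.IsLocalOnBase AlgSp.IsFppfCover P) : SchemeTested P := fun V Z a h => by
  obtain ⟨W, p, hpe, hps⟩ := Z.property.atlas
  exact atlasDescent_of_local hasAtlasCovers_fppf hP a p hpe hps (h p)

/-- The property `P` on an open set of points, and maximality. -/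
def IsBest (P : MorphismProperty (AlgSp.Sp S)) (f : 𝒳 ⥤ᵇ 𝒴) (T : Set (AlgSt.Points 𝒳)) : Prop :=
  IsOpen T ∧ AlgSt.RepByAlgSpWith P (BasedFunctor.comp (AlgSt.subIncl 𝒳 (inSet T)) f) ∧
    ∀ T' : Set (AlgSt.Points 𝒳), IsOpen T' →
      AlgSt.RepByAlgSpWith P (BasedFunctor.comp (AlgSt.subIncl 𝒳 (inSet T')) f) → T' ⊆ T

theorem IsBest.unique {f : 𝒳 ⥤ᵇ 𝒴} {T T' : Set (AlgSt.Points 𝒳)} (h : IsBest P f T) (h' : IsBest P f T') : T = T' :=
  (h'.2.2 T h.1 h.2.1).antisymm (h.2.2 T' h'.1 h'.2.1)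

theorem isEquivOver_restrictTo (h𝒳 : IsFibGrpd 𝒳.p) (h𝒳' : IsFibGrpd 𝒳'.p) {E : 𝒳' ⥤ᵇ 𝒳} (hE : IsEquivOver E)
    (T : Set (AlgSt.Points 𝒳)) :
    IsEquivOver (restrictTo E (inSet (AlgSt.Points.map E ⁻¹' T)) (inSet T)
      fun a ha => (inSet_obj_iff h𝒳' h𝒳 E T a).2 ha) := by
  obtain ⟨hfull, hfaith, hess⟩ := EqvData.of_isEquivOver hE
  refine EqvData.isEquivOver ⟨⟨fun {a b} k => ?_⟩, ⟨fun {a b} k k' hk => ?_⟩, fun z => ?_⟩
  · obtain ⟨m, hm⟩ := E.toFunctor.map_surjective k.hom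
    exact ⟨ObjectProperty.homMk m, ObjectProperty.hom_ext _ hm⟩
  · exact ObjectProperty.hom_ext _ (E.toFunctor.map_injective (congrArg (fun t => t.hom) hk))
  · obtain ⟨w, i, hi⟩ := hess z.obj
    have hw : inSet T (E.obj w) := (isClosedUnderIso_inSet T).of_iso i.symm z.property
    exact ⟨⟨w, (inSet_obj_iff h𝒳' h𝒳 E T w).1 hw⟩, ObjectProperty.isoMk _ i, (vert_iff (AlgSt.fullSub 𝒳 (inSet T)).p _).2 ((vert_iff 𝒳.p i.hom).1 hi :)⟩

/-- An open immersion is equivalent to the open substack of its image. -/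
theorem isEquivOver_range (h𝒳 : IsFibGrpd 𝒳.p) (h𝒳' : IsFibGrpd 𝒳'.p) {j : 𝒳' ⥤ᵇ 𝒳} [j.toFunctor.Full]
    [j.toFunctor.Faithful] (hj : AlgSt.IsOpenImm j) :
    ∃ L : 𝒳' ⥤ᵇ AlgSt.fullSub 𝒳 (inSet (Set.range (AlgSt.Points.map j))),
      IsEquivOver L ∧ BasedFunctor.comp L (AlgSt.subIncl 𝒳 (inSet (Set.range (AlgSt.Points.map j)))) = j := by
  refine ⟨{ toFunctor := ObjectProperty.lift _ j.toFunctor fun v => ptsOf_obj_subset h𝒳' h𝒳 j v
            w := j.w }, ?_, rfl⟩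
  refine EqvData.isEquivOver ⟨⟨fun {a b} k => ?_⟩, ⟨fun {a b} k k' hk => ?_⟩, fun z => ?_⟩
  · obtain ⟨m, hm⟩ := j.toFunctor.map_surjective k.hom
    exact ⟨m, ObjectProperty.hom_ext _ hm⟩
  · exact j.toFunctor.map_injective (congrArg (fun t => t.hom) hk :)
  · obtain ⟨w, ⟨i⟩⟩ := exists_obj_of_ptsOf_subset hj h𝒳' h𝒳 z.property
    haveI : IsIso (𝒳.p.map i.hom) := inferInstance
    obtain ⟨b, ψ, e, hψ⟩ := fibGrpd_lift h𝒳' w (inv (𝒳.p.map i.hom) ≫ eqToHom (j.w_obj w))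
    let χ : j.obj b ⟶ z.obj := j.map ψ ≫ i.hom
    have hχ : 𝒳.p.map χ = eqToHom ((j.w_obj b).trans e) := by
      show 𝒳.p.map (j.map ψ ≫ i.hom) = _
      rw [Functor.map_comp, based_map j ψ, hψ]
      simp
    haveI : IsIso (𝒳.p.map χ) := by rw [hχ]; infer_instance
    haveI : IsIso χ := fibGrpd_isIso h𝒳 χ
    have hv : 𝒳.p.IsHomLift (𝟙 (𝒳.p.obj z.obj)) (asIso χ).hom := (vert_iff 𝒳.p _).2 ⟨(j.w_obj b).trans e, (j.w_obj b).trans e, hχ⟩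
    exact ⟨b, ObjectProperty.isoMk _ (asIso χ),
      (vert_iff (AlgSt.fullSub 𝒳 _).p _).2 ((vert_iff 𝒳.p (asIso χ).hom).1 hv :)⟩

theorem isAlgStack_ofSp (F : AlgSp.Space S) : AS (AlgSt.ofSp F.obj) := (isDM_ofSp F).1

theorem with_iff_of_equiv {f : 𝒳 ⥤ᵇ 𝒴} {f' : 𝒳' ⥤ᵇ 𝒴} {E : 𝒳' ⥤ᵇ 𝒳} (hE : IsEquivOver E)
    (i : BasedFunctor.comp E f ≅ f') : AlgSt.RepByAlgSpWith P f' ↔ AlgSt.RepByAlgSpWith P f :=
  ⟨fun h => (repByAlgSpWith_iff_of_square (f := f) (f' := BasedFunctor.comp E f) hE (isEquivOver_id _) (Iso.refl _)).1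
      (repByAlgSpWith_of_iso i.symm h),
    fun h => repByAlgSpWith_of_iso i (with_equiv_comp hE h)⟩

theorem IsBest.of_equiv (h𝒳 : AS 𝒳) (h𝒳' : AS 𝒳') {f : 𝒳 ⥤ᵇ 𝒴} {f' : 𝒳' ⥤ᵇ 𝒴} {E : 𝒳' ⥤ᵇ 𝒳}
    (hE : IsEquivOver E) (i : BasedFunctor.comp E f ≅ f') {T : Set (AlgSt.Points 𝒳)} (h : IsBest P f T) :
    IsBest P f' (AlgSt.Points.map E ⁻¹' T) := by
  have key : ∀ U : Set (AlgSt.Points 𝒳),
      AlgSt.RepByAlgSpWith P (BasedFunctor.comp (AlgSt.subIncl 𝒳' (inSet (AlgSt.Points.map E ⁻¹' U))) f') ↔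
        AlgSt.RepByAlgSpWith P (BasedFunctor.comp (AlgSt.subIncl 𝒳 (inSet U)) f) := fun U =>
    with_iff_of_equiv (isEquivOver_restrictTo h𝒳.isStack.1 h𝒳'.isStack.1 hE U)
      ((Stk.restr (AlgSt.subIncl 𝒳' _) _).mapIso i)
  obtain ⟨e, he⟩ := exists_pointsHomeo h𝒳' h𝒳 hE
  refine ⟨h.1.preimage (continuous_points_map h𝒳 E), (key T).2 h.2.1, fun T' hT' h' => ?_⟩
  let U := AlgSt.Points.map E '' T'
  have hU : IsOpen U := by
    rw [show U = e '' T' from Set.image_congr fun x _ => (he x).symm]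
    exact e.isOpenMap _ hT'
  have hpre : AlgSt.Points.map E ⁻¹' U = T' := Set.preimage_image_eq T' (points_bijective_of_equiv hE).1
  rw [← hpre] at h' ⊢
  exact Set.preimage_mono (h.2.2 U hU ((key U).1 h'))

theorem IsBest.of_base {f : 𝒳 ⥤ᵇ 𝒴} {E : 𝒴 ⥤ᵇ 𝒴'} (hE : IsEquivOver E) {T : Set (AlgSt.Points 𝒳)}
    (h : IsBest P f T) : IsBest P (BasedFunctor.comp f E) T := by
  have key : ∀ U : Set (AlgSt.Points 𝒳),
      AlgSt.RepByAlgSpWith P (BasedFunctor.comp (AlgSt.subIncl 𝒳 (inSet U)) (BasedFunctor.comp f E)) ↔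
        AlgSt.RepByAlgSpWith P (BasedFunctor.comp (AlgSt.subIncl 𝒳 (inSet U)) f) := fun U =>
    (repByAlgSpWith_iff_of_square (f := BasedFunctor.comp (BasedFunctor.comp (AlgSt.subIncl 𝒳 (inSet U)) f) E)
      (f' := BasedFunctor.comp (AlgSt.subIncl 𝒳 (inSet U)) f) (isEquivOver_id _) hE (Iso.refl _)).symm
  exact ⟨h.1, (key T).2 h.2.1, fun T' hT' h' => h.2.2 T' hT' ((key T').1 h')⟩

section Spaces

variable (hPb : PbStable P) (hPl : AlgSp.IsLocalOnBase AlgSp.IsFppfCover P)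
include hPb hPl

/-- An open subspace with the property. -/
theorem with_openImm_iff {X Y W : AlgSp.Space S} (a : X.obj ⟶ Y.obj) (w : W.obj ⟶ X.obj)
    (hw : AlgSp.RepWith @IsOpenImmersion w) :
    AlgSt.RepByAlgSpWith P (BasedFunctor.comp
        (AlgSt.subIncl (AlgSt.ofSp X.obj) (inSet (Set.range (AlgSt.Points.map (AlgSt.ofSpMap w))))) (AlgSt.ofSpMap a)) ↔
      P (w ≫ a) := by
  haveI : Mono w := AlgSpLib.mono_of_repWith (fun _ _ k (_ : IsOpenImmersion k) => (inferInstance : Mono k)) hw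
  haveI := full_ofSpMap w
  haveI : (AlgSt.ofSpMap w).toFunctor.Faithful :=
    ⟨fun h => Stk.EltObj.hom_ext (congrArg (fun k => k.hom) h :)⟩
  obtain ⟨L, hL, hLe⟩ := isEquivOver_range (setoid_ofSp X.obj).1 (setoid_ofSp W.obj).1
    (j := AlgSt.ofSpMap w) (repByAlgSpWith_ofSpMap pbStable_repWith (V := W) (Z := X) w hw)
  refine (with_iff_of_equiv hL (f' := AlgSt.ofSpMap (w ≫ a)) (eqToIso ?_)).symm.trans ⟨?_, ?_⟩
  · rw [← ofSpMap_comp]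
    exact congrArg (fun t => BasedFunctor.comp t (AlgSt.ofSpMap a)) hLe
  · exact prop_of_repByAlgSpWith_ofSpMap hPb (schemeTested_of_local hPl) (V := W) (Z := Y) (w ≫ a)
  · exact repByAlgSpWith_ofSpMap hPb (V := W) (Z := Y) (w ≫ a)

omit hPb hPl in
theorem range_open {X W : AlgSp.Space S} (w : W.obj ⟶ X.obj) (hw : AlgSp.RepWith @IsOpenImmersion w) :
    IsOpen (Set.range (AlgSt.Points.map (AlgSt.ofSpMap w))) :=
  isOpen_range_openImm (repByAlgSpWith_ofSpMap pbStable_repWith (V := W) (Z := X) w hw) (setoid_ofSp W.obj).1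
    (setoid_ofSp X.obj).1

/-- A largest open subspace gives the best set of points. -/
theorem isBest_of_largest {X Y : AlgSp.Space S} (a : X ⟶ Y) {W : AlgSp.Space S} (w : W ⟶ X)
    (h : AlgSp.RepWith @IsOpenImmersion w.hom ∧ P (w ≫ a).hom ∧
      ∀ (W₁ : AlgSp.Space S) (w₁ : W₁ ⟶ X), AlgSp.RepWith @IsOpenImmersion w₁.hom → P (w₁ ≫ a).hom →
        ∃ k : W₁ ⟶ W, k ≫ w = w₁) :
    IsBest P (AlgSt.ofSpMap a.hom) (Set.range (AlgSt.Points.map (AlgSt.ofSpMap w.hom))) := by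
  refine ⟨range_open w.hom h.1, (with_openImm_iff hPb hPl a.hom w.hom h.1).2 h.2.1, fun T' hT' h' => ?_⟩
  let T₀ := stPt ⁻¹' T'
  have hT₀ : IsOpen T₀ := hT'.preimage (stPtHomeo X).continuous
  let W₁ : AlgSp.Space S := ⟨_, AlgSpLib.isAlgSpace_openSubspace X.property hT₀⟩
  let w₁ : W₁ ⟶ X := ObjectProperty.homMk (AlgSpLib.openSubspaceι X.obj T₀)
  have hw₁ : AlgSp.RepWith @IsOpenImmersion w₁.hom := AlgSpLib.repWith_openSubspaceι X.obj hT₀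
  have hr : Set.range (AlgSt.Points.map (AlgSt.ofSpMap w₁.hom)) = T' := by
    ext z
    constructor
    · rintro ⟨v, rfl⟩
      obtain ⟨v₀, rfl⟩ := stPt_bijective.2 v
      rw [map_stPt]
      exact (AlgSpLib.range_openSubspaceι X.obj T₀).le ⟨v₀, rfl⟩
    · intro hz
      obtain ⟨z₀, rfl⟩ := stPt_bijective.2 z
      obtain ⟨v₀, rfl⟩ := (AlgSpLib.range_openSubspaceι X.obj T₀).ge hz
      exact ⟨stPt v₀, map_stPt _ _⟩
  rw [← hr] at h'
  obtain ⟨k, hk⟩ := h.2.2 W₁ w₁ hw₁ ((with_openImm_iff hPb hPl a.hom w₁.hom hw₁).1 h')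
  rw [← hr, ← hk]
  rintro _ ⟨v, rfl⟩
  exact ⟨AlgSt.Points.map (AlgSt.ofSpMap k.hom) v, by
    rw [ObjectProperty.FullSubcategory.comp_hom, ← ofSpMap_comp, points_map_comp]⟩

theorem exists_best_space (h₃ : ∀ (X Y : AlgSp.Space S) (f : X ⟶ Y), Q f.hom →
      ∃ (W : AlgSp.Space S) (w : W ⟶ X), (AlgSp.RepWith @IsOpenImmersion w.hom ∧ P (w ≫ f).hom ∧
          ∀ (W₁ : AlgSp.Space S) (w₁ : W₁ ⟶ X), AlgSp.RepWith @IsOpenImmersion w₁.hom → P (w₁ ≫ f).hom →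
            ∃ k : W₁ ⟶ W, k ≫ w = w₁))
    {X Y : AlgSp.Space S} (a : X ⟶ Y) (ha : Q a.hom) : ∃ T, IsBest P (AlgSt.ofSpMap a.hom) T := by
  obtain ⟨W, w, hw⟩ := h₃ X Y a ha
  exact ⟨_, isBest_of_largest hPb hPl a w hw⟩

theorem best_baseChange_space (h₃ : ∀ (X Y : AlgSp.Space S) (f : X ⟶ Y), Q f.hom →
      ∃ (W : AlgSp.Space S) (w : W ⟶ X), (AlgSp.RepWith @IsOpenImmersion w.hom ∧ P (w ≫ f).hom ∧
          ∀ (W₁ : AlgSp.Space S) (w₁ : W₁ ⟶ X), AlgSp.RepWith @IsOpenImmersion w₁.hom → P (w₁ ≫ f).hom →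
            ∃ k : W₁ ⟶ W, k ≫ w = w₁))
    (h₄ : ∀ (X Y X' Y' : AlgSp.Space S) (f : X ⟶ Y) (g : Y' ⟶ Y) (f' : X' ⟶ Y') (g' : X' ⟶ X),
      IsPullback g'.hom f'.hom f.hom g.hom → Q f.hom → R g.hom →
      ∀ (W : AlgSp.Space S) (w : W ⟶ X), (AlgSp.RepWith @IsOpenImmersion w.hom ∧ P (w ≫ f).hom ∧
          ∀ (W₁ : AlgSp.Space S) (w₁ : W₁ ⟶ X), AlgSp.RepWith @IsOpenImmersion w₁.hom → P (w₁ ≫ f).hom →
            ∃ k : W₁ ⟶ W, k ≫ w = w₁) →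
        ∀ (W' : AlgSp.Space S) (w' : W' ⟶ X') (k : W' ⟶ W), IsPullback k.hom w'.hom w.hom g'.hom →
          (AlgSp.RepWith @IsOpenImmersion w'.hom ∧ P (w' ≫ f').hom ∧
          ∀ (W₁ : AlgSp.Space S) (w₁ : W₁ ⟶ X'), AlgSp.RepWith @IsOpenImmersion w₁.hom → P (w₁ ≫ f').hom →
            ∃ k : W₁ ⟶ W', k ≫ w' = w₁))
    {X Y X' Y' : AlgSp.Space S} (a : X ⟶ Y) (g : Y' ⟶ Y) (a' : X' ⟶ Y') (g' : X' ⟶ X)
    (sq : IsPullback g'.hom a'.hom a.hom g.hom) (ha : Q a.hom) (hg : R g.hom)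
    {T : Set (AlgSt.Points (AlgSt.ofSp X.obj))} (hT : IsBest P (AlgSt.ofSpMap a.hom) T) :
    IsBest P (AlgSt.ofSpMap a'.hom) (AlgSt.Points.map (AlgSt.ofSpMap g'.hom) ⁻¹' T) := by
  obtain ⟨W, w, hw⟩ := h₃ X Y a ha
  obtain rfl := hT.unique (isBest_of_largest hPb hPl a w hw)
  let W' : AlgSp.Space S := ⟨pullback w.hom g'.hom, AlgSpLib.isAlgSpace_pullback (Z := X) w.hom g'.hom⟩
  let w' : W' ⟶ X' := ObjectProperty.homMk (pullback.snd w.hom g'.hom)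
  let k : W' ⟶ W := ObjectProperty.homMk (pullback.fst w.hom g'.hom)
  have sq' : IsPullback k.hom w'.hom w.hom g'.hom := IsPullback.of_hasPullback w.hom g'.hom
  have hw' := h₄ X Y X' Y' a g a' g' sq ha hg W w hw W' w' k sq'
  have e : AlgSt.Points.map (AlgSt.ofSpMap g'.hom) ⁻¹' Set.range (AlgSt.Points.map (AlgSt.ofSpMap w.hom)) =
      Set.range (AlgSt.Points.map (AlgSt.ofSpMap w'.hom)) := by
    ext z
    obtain ⟨z₀, rfl⟩ := stPt_bijective.2 z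
    constructor
    · rintro ⟨v, hv⟩
      obtain ⟨v₀, rfl⟩ := stPt_bijective.2 v
      rw [map_stPt, map_stPt] at hv
      obtain ⟨u, -, hu⟩ := AlgSpLib.exists_point_of_isPullback sq' (stPt_bijective.1 hv)
      exact ⟨stPt u, by rw [map_stPt, hu]⟩
    · rintro ⟨v, hv⟩
      refine ⟨AlgSt.Points.map (AlgSt.ofSpMap k.hom) v, ?_⟩
      rw [← hv, ← points_map_comp, ← points_map_comp, ofSpMap_comp, ofSpMap_comp, sq'.w]
  rw [e]
  exact isBest_of_largest hPb hPl a' w' hw'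

end Spaces

end Groth.Agent.Stk19b.LargestRep
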