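import Groth.Agent.Stk19b.LargestRep.Core

/-! The largest open substack and its base change. -/

set_option autoImplicit false
set_option linter.style.haveILetI false
set_option backward.isDefEq.respectTransparency false
set_option backward.isDefEq.respectTransparency.types false

universe u

open CategoryTheory CategoryTheory.Limits AlgebraicGeometry Opposite FibCat Groth.Agent.Stk19

namespace Groth.Agent.Stk19b.LargestRep

variable {S : Scheme.{u}} {𝒳 𝒴 𝒵 : AlgSt.Cat S} {P Q R : MorphismProperty (AlgSp.Sp S)}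

local notation "AS" => AlgSt.IsAlgStack Scheme.fppfPrecoverage

theorem exists_largest (st : Setting P Q R) (h𝒳 : AS 𝒳) (h𝒴 : AS 𝒴) {f : 𝒳 ⥤ᵇ 𝒴}
    (hf : AlgSt.RepByAlgSpWith Q f) :
    ∃ Q₀ : 𝒳.obj → Prop, AlgSt.IsOpenSubstack 𝒳 Q₀ Scheme.fppfPrecoverage ∧
      AlgSt.RepByAlgSpWith P (BasedFunctor.comp (AlgSt.subIncl 𝒳 Q₀) f) ∧
        ∀ Q₁ : 𝒳.obj → Prop, AlgSt.IsOpenSubstack 𝒳 Q₁ Scheme.fppfPrecoverage →
          AlgSt.RepByAlgSpWith P (BasedFunctor.comp (AlgSt.subIncl 𝒳 Q₁) f) → ∀ y, Q₁ y → Q₀ y := by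
  obtain ⟨B, Y, c, hB, -, -, -⟩ := exists_core st h𝒳 h𝒴 hf
  refine ⟨inSet B, isOpenSubstack_inSet h𝒳 hB.1, hB.2.1, fun Q₁ h₁ h₂ y hy => ?_⟩
  rw [openSub_eq h𝒳 h₁] at h₂ hy
  exact hy.trans (hB.2.2 _ (isOpen_range_openSub h𝒳 h₁) h₂)

theorem largest_baseChange (st : Setting P Q R) (h𝒳 : AS 𝒳) (h𝒴 : AS 𝒴) (h𝒵 : AS 𝒵) {f : 𝒳 ⥤ᵇ 𝒴}
    (hf : AlgSt.RepByAlgSpWith Q f)
    (Q₀ : 𝒳.obj → Prop) (hQ₀ : AlgSt.IsOpenSubstack 𝒳 Q₀ Scheme.fppfPrecoverage)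
    (hQ₀P : AlgSt.RepByAlgSpWith P (BasedFunctor.comp (AlgSt.subIncl 𝒳 Q₀) f))
    (hQ₀max : ∀ Q₁ : 𝒳.obj → Prop, AlgSt.IsOpenSubstack 𝒳 Q₁ Scheme.fppfPrecoverage →
      AlgSt.RepByAlgSpWith P (BasedFunctor.comp (AlgSt.subIncl 𝒳 Q₁) f) → ∀ y, Q₁ y → Q₀ y)
    (z : 𝒵 ⥤ᵇ 𝒴) (hz : AlgSt.RepByAlgSpWith R z) :
    AlgSt.IsOpenSubstack (fp z f) (fun b ↦ Q₀ b.obj.snd) Scheme.fppfPrecoverage ∧
      AlgSt.RepByAlgSpWith P
        (BasedFunctor.comp (AlgSt.subIncl (fp z f) fun b ↦ Q₀ b.obj.snd) (fpFst z f)) ∧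
        ∀ Q₁ : (fp z f).obj → Prop, AlgSt.IsOpenSubstack (fp z f) Q₁ Scheme.fppfPrecoverage →
          AlgSt.RepByAlgSpWith P (BasedFunctor.comp (AlgSt.subIncl (fp z f) Q₁) (fpFst z f)) →
            ∀ b, Q₁ b → Q₀ b.obj.snd := by
  obtain ⟨B, Y, c, hB, hc, hcs, hBc⟩ := exists_core st h𝒳 h𝒴 hf
  have hN := isAlgStack_fp h𝒴.isStack h𝒴.diag h𝒵 h𝒳 z f
  have eQ := openSub_eq h𝒳 hQ₀
  have e₀ : Set.range (AlgSt.Points.map (AlgSt.subIncl 𝒳 Q₀)) = B := by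
    refine Set.Subset.antisymm ?_ ?_
    · rw [eQ] at hQ₀P
      exact hB.2.2 _ (isOpen_range_openSub h𝒳 hQ₀) hQ₀P
    · have h1 := (openSub_le_iff h𝒳 (isOpenSubstack_inSet h𝒳 hB.1) hQ₀).1
        (fun y hy => hQ₀max _ (isOpenSubstack_inSet h𝒳 hB.1) hB.2.1 y hy)
      rwa [range_subIncl_inSet B h𝒳.isStack.1] at h1
  rw [e₀] at eQ
  let σ := fpSnd z f
  have eP : (fun b : (fp z f).obj ↦ Q₀ b.obj.snd) = inSet (AlgSt.Points.map σ ⁻¹' B) := funext fun b => by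
    show Q₀ (σ.obj b) = _
    rw [eQ]
    exact propext (inSet_obj_iff hN.isStack.1 h𝒳.isStack.1 σ B b)
  refine ⟨?_, ?_, fun Q₁ h₁ h₂ b hb => ?_⟩
  · rw [eP]
    exact isOpenSubstack_inSet hN (hB.1.preimage (continuous_points_map h𝒳 σ))
  · rw [eP]
    exact (with_pre_iff h𝒳 h𝒴 h𝒵 z f B).1 (repByAlgSpWith_fpFst z hB.2.1)
  have hY := isAlgStack_ofSp Y
  obtain ⟨F, a, eA, heA, ⟨iA⟩⟩ := exists_rep_map h𝒵.isStack.1 h𝒴.isStack.1 (repByAlgSp1_of_with hz) Y c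
  have hR : R (spHom (BasedFunctor.comp eA (fpFst c z))) := by
    rw [spHom_congr iA.hom, spHom_ofSpMap]
    exact rep_prop hasAtlasCovers_fppf (respSrc_of_baseChange st.hRb) st.hR hz c heA iA
  have hA := isAlgStack_fp h𝒴.isStack h𝒴.diag hY h𝒵 c z
  have hbest := best_baseChange st h𝒳 h𝒴 hf c heA (fpFst c z) hR hBc
  let h := fpSnd c z
  have hNh := isAlgStack_fp h𝒵.isStack h𝒵.diag hA hN h (fpFst z f)
  obtain ⟨E, hE, hE₁, hE₂⟩ := exists_congr (F := BasedFunctor.comp h z) (G := f) (fpIso c z).symm (Iso.refl _)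
  let W := BasedFunctor.comp (fpPaste h z f) E
  have hW : IsEquivOver W := isEquivOver_comp (isEquivOver_fpPaste h z f) hE
  have hWb := hbest.of_equiv (isAlgStack_fp h𝒴.isStack h𝒴.diag hA h𝒳 (BasedFunctor.comp (fpFst c z) c) f) hNh hW
    (eqToIso (show BasedFunctor.comp W (fpFst (BasedFunctor.comp (fpFst c z) c) f) = fpFst h (fpFst z f) by
      show BasedFunctor.comp (fpPaste h z f) (BasedFunctor.comp E (fpFst (BasedFunctor.comp (fpFst c z) c) f)) = _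
      rw [hE₁]
      rfl))
  let T₁ := Set.range (AlgSt.Points.map (AlgSt.subIncl (fp z f) Q₁))
  have hT₁ : IsOpen T₁ := isOpen_range_openSub hN h₁
  rw [openSub_eq hN h₁] at h₂ hb
  have hsub := hWb.2.2 _ (hT₁.preimage (continuous_points_map hN (fpSnd h (fpFst z f))))
    ((with_pre_iff hN h𝒵 hA h (fpFst z f) T₁).1 (repByAlgSpWith_fpFst h h₂))
  rw [eQ]
  refine (inSet_obj_iff hN.isStack.1 h𝒳.isStack.1 σ B b).2 (hb.trans fun p hp => ?_)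
  obtain ⟨w, rfl⟩ := isSurjective_of_with hN.isStack.1
    (repByAlgSpWith_fpSnd (fpFst z f) (repByAlgSpWith_fpSnd z hcs)) p
  have h1 := hsub hp
  show AlgSt.Points.map σ (AlgSt.Points.map (fpSnd h (fpFst z f)) w) ∈ B
  rw [← points_map_comp]
  have e : BasedFunctor.comp W (BasedFunctor.comp (Φ c f (fpFst c z)) (fpSnd c f)) =
      BasedFunctor.comp (fpSnd h (fpFst z f)) σ := by
    show BasedFunctor.comp (fpPaste h z f) (BasedFunctor.comp E (fpSnd (BasedFunctor.comp (fpFst c z) c) f)) = _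
    rw [hE₂]
    rfl
  rw [← e, points_map_comp, points_map_comp]
  exact h1

end Groth.Agent.Stk19b.LargestRep
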