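import Groth.Agent.Stk19b.LargestRep.Basic

/-! The largest open substack on which a morphism representable by algebraic spaces has a property. -/

set_option autoImplicit false
set_option linter.style.haveILetI false
set_option backward.isDefEq.respectTransparency false
set_option backward.isDefEq.respectTransparency.types false

universe u

open CategoryTheory CategoryTheory.Limits AlgebraicGeometry Opposite FibCat Groth.Agent.Stk19

namespace Groth.Agent.Stk19b.LargestRep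

variable {S : Scheme.{u}} {𝒳 𝒴 𝒵 𝒜 : AlgSt.Cat S}

local notation "AS" => AlgSt.IsAlgStack Scheme.fppfPrecoverage
local notation "Sm" => AlgSt.RepByAlgSpWith (AlgSp.LocP @Smooth)
local notation "Srj" => AlgSt.RepByAlgSpWith AlgSp.IsSurjectiveMor

/-- The hypotheses on the three properties. -/
structure Setting (P Q R : MorphismProperty (AlgSp.Sp S)) : Prop where
  hPb : PbStable P
  hQb : PbStable Q
  hRb : PbStable R
  hP : AlgSp.IsLocalOnBase AlgSp.IsFppfCover P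
  hQ : AlgSp.IsLocalOnBase AlgSp.IsFppfCover Q
  hR : AlgSp.IsLocalOnBase AlgSp.IsFppfCover R
  h₂ : ∀ (X Y : AlgSp.Space S) (g : X ⟶ Y), AlgSp.LocP @Smooth g.hom → R g.hom
  h₃ : ∀ (X Y : AlgSp.Space S) (f : X ⟶ Y), Q f.hom →
      ∃ (W : AlgSp.Space S) (w : W ⟶ X), (AlgSp.RepWith @IsOpenImmersion w.hom ∧ P (w ≫ f).hom ∧
          ∀ (W₁ : AlgSp.Space S) (w₁ : W₁ ⟶ X), AlgSp.RepWith @IsOpenImmersion w₁.hom → P (w₁ ≫ f).hom →
            ∃ k : W₁ ⟶ W, k ≫ w = w₁)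
  h₄ : ∀ (X Y X' Y' : AlgSp.Space S) (f : X ⟶ Y) (g : Y' ⟶ Y) (f' : X' ⟶ Y') (g' : X' ⟶ X),
      IsPullback g'.hom f'.hom f.hom g.hom → Q f.hom → R g.hom →
      ∀ (W : AlgSp.Space S) (w : W ⟶ X), (AlgSp.RepWith @IsOpenImmersion w.hom ∧ P (w ≫ f).hom ∧
          ∀ (W₁ : AlgSp.Space S) (w₁ : W₁ ⟶ X), AlgSp.RepWith @IsOpenImmersion w₁.hom → P (w₁ ≫ f).hom →
            ∃ k : W₁ ⟶ W, k ≫ w = w₁) →
        ∀ (W' : AlgSp.Space S) (w' : W' ⟶ X') (k : W' ⟶ W), IsPullback k.hom w'.hom w.hom g'.hom →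
          (AlgSp.RepWith @IsOpenImmersion w'.hom ∧ P (w' ≫ f').hom ∧
          ∀ (W₁ : AlgSp.Space S) (w₁ : W₁ ⟶ X'), AlgSp.RepWith @IsOpenImmersion w₁.hom → P (w₁ ≫ f').hom →
            ∃ k : W₁ ⟶ W', k ≫ w' = w₁)

/-- The part of a base change lying over an open set of points. -/
theorem with_pre_iff (h𝒳 : AS 𝒳) (h𝒴 : AS 𝒴) (h𝒵 : AS 𝒵) {P : MorphismProperty (AlgSp.Sp S)} (z : 𝒵 ⥤ᵇ 𝒴)
    (f : 𝒳 ⥤ᵇ 𝒴) (B : Set (AlgSt.Points 𝒳)) :
    AlgSt.RepByAlgSpWith P (fpFst z (BasedFunctor.comp (AlgSt.subIncl 𝒳 (inSet B)) f)) ↔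
    AlgSt.RepByAlgSpWith P (BasedFunctor.comp
      (AlgSt.subIncl (fp z f) (inSet (AlgSt.Points.map (fpSnd z f) ⁻¹' B))) (fpFst z f)) := by
  have hg := (isAlgStack_fp h𝒴.isStack h𝒴.diag h𝒵 h𝒳 z f).isStack.1
  let fi := BasedFunctor.comp (AlgSt.subIncl 𝒳 (inSet B)) f
  let J₀ : fp z fi ⥤ᵇ fp z f :=
    fpLift (fpFst z fi) (BasedFunctor.comp (fpSnd z fi) (AlgSt.subIncl 𝒳 (inSet B))) (fpIso z fi)
  let J : fp z fi ⥤ᵇ AlgSt.fullSub (fp z f) (inSet (AlgSt.Points.map (fpSnd z f) ⁻¹' B)) :=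
    { toFunctor := ObjectProperty.lift _ J₀.toFunctor fun b =>
        (inSet_obj_iff hg h𝒳.isStack.1 (fpSnd z f) B (J₀.obj b)).1 b.obj.snd.property
      w := J₀.w }
  have hJ : IsEquivOver J := by
    refine EqvData.isEquivOver ⟨⟨fun {p q} m => ?_⟩, ⟨fun {p q} m m' hm => ?_⟩, fun b => ?_⟩
    · exact ⟨fpHom m.hom.hom.fst (ObjectProperty.homMk m.hom.hom.snd) m.hom.hom.w,
        ObjectProperty.hom_ext _ (fp_hom_ext rfl rfl)⟩
    · exact fp_hom_ext (congrArg (fun t => t.hom.hom.fst) hm :)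
        (ObjectProperty.hom_ext _ (congrArg (fun t => t.hom.hom.snd) hm :))
    · have hb : inSet B b.obj.obj.snd := (inSet_obj_iff hg h𝒳.isStack.1 (fpSnd z f) B b.obj).2 b.property
      refine ⟨fpMk (F := z) (G := fi) b.obj.obj.fst ⟨b.obj.obj.snd, hb⟩ b.obj.obj.iso b.obj.property,
        ObjectProperty.isoMk _ (Iso.refl _), ?_⟩
      exact IsHomLift.id rfl
  have e : BasedFunctor.comp J (BasedFunctor.comp
      (AlgSt.subIncl (fp z f) (inSet (AlgSt.Points.map (fpSnd z f) ⁻¹' B))) (fpFst z f)) = fpFst z fi := rfl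
  exact with_iff_of_equiv hJ (eqToIso e)

variable {P Q R : MorphismProperty (AlgSp.Sp S)}

/-- The best set over a space. -/
theorem exists_best (st : Setting P Q R) (h𝒳 : AS 𝒳) (h𝒴 : AS 𝒴) {f : 𝒳 ⥤ᵇ 𝒴} (hf : AlgSt.RepByAlgSpWith Q f)
    (Y : AlgSp.Space S) (c : AlgSt.ofSp Y.obj ⥤ᵇ 𝒴) : ∃ T, IsBest P (fpFst c f) T := by
  obtain ⟨X, a, eX, heX, ⟨iX⟩⟩ := exists_rep_map h𝒳.isStack.1 h𝒴.isStack.1 (repByAlgSp1_of_with hf) Y c
  have ha : Q a.hom := rep_prop hasAtlasCovers_fppf (respSrc_of_baseChange st.hQb) st.hQ hf c heX iX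
  obtain ⟨T, hT⟩ := exists_best_space st.hPb st.hP st.h₃ a ha
  obtain ⟨G, hG, ⟨u⟩, ⟨v⟩⟩ := exists_inverse heX
  exact ⟨_, hT.of_equiv (isAlgStack_ofSp X) (isAlgStack_fp h𝒴.isStack h𝒴.diag (isAlgStack_ofSp Y) h𝒳 c f) hG
    ((Stk.restr G _).mapIso iX.symm ≪≫ (postB _ (fpFst c f)).mapIso v)⟩

/-- The map of fibre products over a change of base. -/
abbrev Φ {ℬ : AlgSt.Cat S} (c : ℬ ⥤ᵇ 𝒴) (f : 𝒳 ⥤ᵇ 𝒴) (G : 𝒜 ⥤ᵇ ℬ) :
    fp (BasedFunctor.comp G c) f ⥤ᵇ fp c f :=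
  fpLift (BasedFunctor.comp (fpFst (BasedFunctor.comp G c) f) G) (fpSnd (BasedFunctor.comp G c) f)
    (fpIso (BasedFunctor.comp G c) f)

/-- The best set commutes with base change by maps with `R`. -/
theorem best_baseChange (st : Setting P Q R) (h𝒳 : AS 𝒳) (h𝒴 : AS 𝒴) {f : 𝒳 ⥤ᵇ 𝒴} (hf : AlgSt.RepByAlgSpWith Q f)
    {Y Y' : AlgSp.Space S} (c : AlgSt.ofSp Y.obj ⥤ᵇ 𝒴) {eB : AlgSt.ofSp Y'.obj ⥤ᵇ 𝒜} (heB : IsEquivOver eB)
    (G : 𝒜 ⥤ᵇ AlgSt.ofSp Y.obj) (hG : R (spHom (BasedFunctor.comp eB G)))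
    {T : Set (AlgSt.Points (fp c f))} (hT : IsBest P (fpFst c f) T) :
    IsBest P (fpFst (BasedFunctor.comp G c) f) (AlgSt.Points.map (Φ c f G) ⁻¹' T) := by
  have h𝒜 : AS 𝒜 := isAlgStack_of_equiv heB (isAlgStack_ofSp Y')
  have hN := isAlgStack_fp h𝒴.isStack h𝒴.diag (isAlgStack_ofSp Y) h𝒳 c f
  have hN' := isAlgStack_fp h𝒴.isStack h𝒴.diag h𝒜 h𝒳 (BasedFunctor.comp G c) f
  obtain ⟨X, a, eX, heX, ⟨iX⟩⟩ := exists_rep_map h𝒳.isStack.1 h𝒴.isStack.1 (repByAlgSp1_of_with hf) Y c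
  have ha : Q a.hom := rep_prop hasAtlasCovers_fppf (respSrc_of_baseChange st.hQb) st.hQ hf c heX iX
  have hTX : IsBest P (AlgSt.ofSpMap a.hom) (AlgSt.Points.map eX ⁻¹' T) := hT.of_equiv hN (isAlgStack_ofSp X) heX iX
  let g := spHom (BasedFunctor.comp eB G)
  obtain ⟨ig⟩ := spHom_iso (BasedFunctor.comp eB G)
  let X' : AlgSp.Space S := ⟨pullback a.hom g, AlgSpLib.isAlgSpace_pullback (Z := Y) (X := X) (Y := Y') a.hom g⟩
  let a' : X' ⟶ Y' := ObjectProperty.homMk (pullback.snd a.hom g)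
  let g' : X' ⟶ X := ObjectProperty.homMk (pullback.fst a.hom g)
  have sq : IsPullback g'.hom a'.hom a.hom g := IsPullback.of_hasPullback a.hom g
  have hX' := best_baseChange_space st.hPb st.hP st.h₃ st.h₄ a (Y' := Y') (ObjectProperty.homMk g) a' g' sq ha hG hTX
  obtain ⟨E, hE, hE₁, hE₂⟩ := exists_fp_equiv sq.flip
  haveI : (BasedFunctor.id (AlgSt.ofSp Y.obj)).toFunctor.Full := id_full _
  haveI : (BasedFunctor.id (AlgSt.ofSp Y.obj)).toFunctor.Faithful := id_faithful _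
  let E₁ : fp (AlgSt.ofSpMap g) (AlgSt.ofSpMap a.hom) ⥤ᵇ fp G (fpFst c f) :=
    fpMap eB eX (BasedFunctor.id _) ig.symm iX.symm
  have hE₁' : IsEquivOver E₁ := isEquivOver_fpMap _ _ _ _ _ heB heX
  let P₁ := fpPaste G c f
  let e' := BasedFunctor.comp E (BasedFunctor.comp E₁ P₁)
  have he' : IsEquivOver e' := isEquivOver_comp hE (isEquivOver_comp hE₁' (isEquivOver_fpPaste G c f))
  have j : BasedFunctor.comp P₁ (Φ c f G) ≅ fpSnd G (fpFst c f) :=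
    isoMk (fun t => fpIsoMk t.obj.iso (Iso.refl _) (by
        show c.map t.obj.iso.hom ≫ t.obj.snd.obj.iso.hom =
          (c.map t.obj.iso.hom ≫ t.obj.snd.obj.iso.hom) ≫ f.map (𝟙 _)
        rw [f.toFunctor.map_id, Category.comp_id]))
      (fun t => fpIsoMk_vert _ _ _ (vert_change _ _ t.property rfl))
      (fun {s t} φ => fp_hom_ext φ.hom.w ((Category.comp_id _).trans (Category.id_comp _).symm))
  have e₁ : BasedFunctor.comp e' (fpFst (BasedFunctor.comp G c) f) = BasedFunctor.comp (AlgSt.ofSpMap a'.hom) eB := by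
    show BasedFunctor.comp (BasedFunctor.comp E (fpFst _ _)) eB = _
    rw [hE₁]
  have e₂ : BasedFunctor.comp e' (Φ c f G) ≅ BasedFunctor.comp (AlgSt.ofSpMap g'.hom) eX :=
    (Stk.restr (BasedFunctor.comp E E₁) _).mapIso j ≪≫ eqToIso (by
      show BasedFunctor.comp E (BasedFunctor.comp E₁ (fpSnd G (fpFst c f))) = _
      rw [show BasedFunctor.comp E₁ (fpSnd G (fpFst c f)) = BasedFunctor.comp (fpSnd _ _) eX from fpMap_snd _ _ _ _ _]
      show BasedFunctor.comp (BasedFunctor.comp E (fpSnd _ _)) eX = _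
      rw [hE₂])
  obtain ⟨G', hG', ⟨u⟩, ⟨v⟩⟩ := exists_inverse he'
  have hb : IsBest P (fpFst (BasedFunctor.comp G c) f) _ := (hX'.of_base heB).of_equiv (isAlgStack_ofSp X') hN' hG'
    ((Stk.restr G' _).mapIso (eqToIso e₁).symm ≪≫ (postB _ (fpFst (BasedFunctor.comp G c) f)).mapIso v)
  convert hb using 1
  ext z
  obtain ⟨z', rfl⟩ := (points_bijective_of_equiv he').2 z
  have hu : AlgSt.Points.map G' (AlgSt.Points.map e' z') = z' :=
    (points_map_comp e' G' z').symm.trans ((points_map_congr u z').trans (points_map_id z'))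
  rw [Set.mem_preimage, Set.mem_preimage, hu, Set.mem_preimage, Set.mem_preimage, ← points_map_comp,
    points_map_congr e₂, points_map_comp]

/-- The largest open set of points, with saturation over any surjective smooth space. -/
theorem exists_core (st : Setting P Q R) (h𝒳 : AS 𝒳) (h𝒴 : AS 𝒴) {f : 𝒳 ⥤ᵇ 𝒴} (hf : AlgSt.RepByAlgSpWith Q f) :
    ∃ (B : Set (AlgSt.Points 𝒳)) (Y : AlgSp.Space S) (c : AlgSt.ofSp Y.obj ⥤ᵇ 𝒴),
      IsBest P f B ∧ Sm c ∧ Srj c ∧ IsBest P (fpFst c f) (AlgSt.Points.map (fpSnd c f) ⁻¹' B) := by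
  obtain ⟨V, yV, hy, hys⟩ := h𝒴.atlas
  let Y : AlgSp.Space S := ⟨_, AlgSp.IsAlgSpace.yon_obj V⟩
  let c : AlgSt.ofSp Y.obj ⥤ᵇ 𝒴 := BasedFunctor.comp (AlgSt.toOverCat V) yV
  have hc : Sm c := with_equiv_comp (isEquivOver_toOverCat V) hy
  have hcs : Srj c := with_equiv_comp (isEquivOver_toOverCat V) hys
  obtain ⟨T, hT⟩ := exists_best st h𝒳 h𝒴 hf Y c
  have hN := isAlgStack_fp h𝒴.isStack h𝒴.diag (isAlgStack_ofSp Y) h𝒳 c f
  have hgN := hN.isStack.1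
  let σ := fpSnd c f
  have hσ : Sm σ := repByAlgSpWith_fpSnd f hc
  have hσs : Srj σ := repByAlgSpWith_fpSnd f hcs
  have hσo : IsOpenMap (AlgSt.Points.map σ) := isOpenMor_of_locQ hN h𝒳
    (locQ_mono (fun _ _ _ => AlgSpLib.locP_mono fun _ _ k (_ : Smooth k) => (inferInstance : Flat k))
      (locQ_of_with smST_smooth hN h𝒳 hσ))
    (locQ_mono (fun _ _ _ => AlgSpLib.locP_mono fun _ _ k (_ : Smooth k) =>
      (inferInstance : LocallyOfFinitePresentation k)) (locQ_of_with smST_smooth hN h𝒳 hσ))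
  have hσsurj : Function.Surjective (AlgSt.Points.map σ) := isSurjective_of_with h𝒳.isStack.1 hσs
  -- the two projections of `Y ×_𝒴 Y`
  obtain ⟨F, a, eF, heF, ⟨iF⟩⟩ := exists_rep_map (isAlgStack_ofSp Y).isStack.1 h𝒴.isStack.1 (repByAlgSp1_of_with hc) Y c
  have hR : ∀ G : fp c c ⥤ᵇ AlgSt.ofSp Y.obj, Sm G → R (spHom (BasedFunctor.comp eF G)) := fun G hG => by
    refine st.h₂ F Y (ObjectProperty.homMk _) ?_
    obtain ⟨i⟩ := spHom_iso (BasedFunctor.comp eF G)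
    exact prop_of_repByAlgSpWith_ofSpMap (pbStable_locP AlgSpLib.etLocal_smooth)
      (schemeTested_locP AlgSpLib.etLocal_smooth) (V := F) (Z := Y) _
      (repByAlgSpWith_of_iso i (with_equiv_comp heF hG))
  have hT₁ := best_baseChange st h𝒳 h𝒴 hf c heF (fpFst c c) (hR _ (repByAlgSpWith_fpFst c hc)) hT
  have hT₂ := best_baseChange st h𝒳 h𝒴 hf c heF (fpSnd c c) (hR _ (repByAlgSpWith_fpSnd c hc)) hT
  have hA := isAlgStack_fp h𝒴.isStack h𝒴.diag (isAlgStack_ofSp Y) (isAlgStack_ofSp Y) c c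
  have hN₁ := isAlgStack_fp h𝒴.isStack h𝒴.diag hA h𝒳 (BasedFunctor.comp (fpFst c c) c) f
  have hN₂ := isAlgStack_fp h𝒴.isStack h𝒴.diag hA h𝒳 (BasedFunctor.comp (fpSnd c c) c) f
  haveI : (BasedFunctor.id 𝒴).toFunctor.Full := id_full _
  haveI : (BasedFunctor.id 𝒴).toFunctor.Faithful := id_faithful _
  let E : fp (BasedFunctor.comp (fpFst c c) c) f ⥤ᵇ fp (BasedFunctor.comp (fpSnd c c) c) f :=
    fpMap (BasedFunctor.id _) (BasedFunctor.id _) (BasedFunctor.id 𝒴) (fpIso c c) (Iso.refl f)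
  have hE : IsEquivOver E := isEquivOver_fpMap _ _ _ _ _ (isEquivOver_id _) (isEquivOver_id _)
  have hT₁' := hT₂.of_equiv hN₂ hN₁ hE (Iso.refl _)
  have heq := hT₁.unique hT₁'
  have hsat : ∀ x₁ x₂ : AlgSt.Points (fp c f), AlgSt.Points.map σ x₁ = AlgSt.Points.map σ x₂ → x₁ ∈ T → x₂ ∈ T := by
    intro x₁ x₂ hx h₁
    obtain ⟨w, hw₁, hw₂⟩ := exists_points_fp hgN h𝒳.isStack.1 hgN σ σ x₁ x₂ hx
    let 𝒲 := fp σ σ
    let π₁ := fpFst σ σ
    let π₂ := fpSnd σ σ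
    let i₁ : BasedFunctor.comp (BasedFunctor.comp π₁ (fpFst c f)) c ≅ BasedFunctor.comp (BasedFunctor.comp π₂ (fpFst c f)) c :=
      (Stk.restr π₁ _).mapIso (fpIso c f) ≪≫ (postB _ f).mapIso (fpIso σ σ) ≪≫ (Stk.restr π₂ _).mapIso (fpIso c f).symm
    let q : 𝒲 ⥤ᵇ fp c c := fpLift (BasedFunctor.comp π₁ (fpFst c f)) (BasedFunctor.comp π₂ (fpFst c f)) i₁
    let M : 𝒲 ⥤ᵇ fp (BasedFunctor.comp (fpFst c c) c) f :=
      fpLift q (BasedFunctor.comp π₁ σ) ((Stk.restr π₁ _).mapIso (fpIso c f))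
    have j₁ : BasedFunctor.comp M (Φ c f (fpFst c c)) ≅ π₁ :=
      isoMk (fun t => fpIsoMk (Iso.refl _) (Iso.refl _) (by
          show c.map (𝟙 _) ≫ _ = _ ≫ f.map (𝟙 _)
          rw [c.toFunctor.map_id, f.toFunctor.map_id, Category.id_comp, Category.comp_id]
          rfl))
        (fun t => fpIsoMk_vert _ _ _ (IsHomLift.id rfl))
        (fun φ => fp_hom_ext ((Category.comp_id _).trans (Category.id_comp _).symm)
          ((Category.comp_id _).trans (Category.id_comp _).symm))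
    let N : 𝒲 ⥤ᵇ fp (BasedFunctor.comp (fpSnd c c) c) f :=
      fpLift q (BasedFunctor.comp π₂ σ) ((Stk.restr π₂ _).mapIso (fpIso c f))
    have j₂ : BasedFunctor.comp N (Φ c f (fpSnd c c)) ≅ π₂ :=
      isoMk (fun t => fpIsoMk (Iso.refl _) (Iso.refl _) (by
          show c.map (𝟙 _) ≫ _ = _ ≫ f.map (𝟙 _)
          rw [c.toFunctor.map_id, f.toFunctor.map_id, Category.id_comp, Category.comp_id]
          rfl))
        (fun t => fpIsoMk_vert _ _ _ (IsHomLift.id rfl))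
        (fun φ => fp_hom_ext ((Category.comp_id _).trans (Category.id_comp _).symm)
          ((Category.comp_id _).trans (Category.id_comp _).symm))
    have j₃ : BasedFunctor.comp M E ≅ N :=
      isoMk (fun t => fpIsoMk (Iso.refl _) t.obj.iso (by
          show c.map (𝟙 _) ≫ t.obj.snd.obj.iso.hom =
            ((t.obj.fst.obj.iso ≪≫ f.toFunctor.mapIso t.obj.iso ≪≫ t.obj.snd.obj.iso.symm).inv ≫
              t.obj.fst.obj.iso.hom ≫ 𝟙 _) ≫ f.map t.obj.iso.hom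
          simp))
        (fun t => fpIsoMk_vert _ _ _ (IsHomLift.id rfl))
        (fun φ => fp_hom_ext ((Category.comp_id _).trans (Category.id_comp _).symm) φ.hom.w)
    rw [← hw₁, ← points_map_congr j₁ w, points_map_comp] at h₁
    have h₂ : AlgSt.Points.map M w ∈ AlgSt.Points.map E ⁻¹' (AlgSt.Points.map (Φ c f (fpSnd c c)) ⁻¹' T) :=
      heq ▸ h₁
    rw [← hw₂, ← points_map_congr j₂ w, points_map_comp, ← points_map_congr j₃ w, points_map_comp]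
    exact h₂
  let B := AlgSt.Points.map σ '' T
  have hB : IsOpen B := hσo T hT.1
  have hpre : AlgSt.Points.map σ ⁻¹' B = T := by
    ext x
    exact ⟨fun ⟨x₁, h₁, e⟩ => hsat x₁ x e h₁, fun h => ⟨x, h, rfl⟩⟩
  refine ⟨B, Y, c, ⟨hB, ?_, fun B' hB' h' => ?_⟩, hc, hcs, hpre.symm ▸ hT⟩
  · have hfl : AlgSt.RepByAlgSpWith (AlgSp.LocP @Flat) c :=
      repByAlgSpWith_mono (fun _ _ _ _ => AlgSpLib.locP_mono fun _ _ k (_ : Smooth k) => (inferInstance : Flat k)) hc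
    have hfp : AlgSt.RepByAlgSpWith (AlgSp.LocP @LocallyOfFinitePresentation) c :=
      repByAlgSpWith_mono (fun _ _ _ _ => AlgSpLib.locP_mono fun _ _ k (_ : Smooth k) =>
        (inferInstance : LocallyOfFinitePresentation k)) hc
    have hf₁ : AlgSt.RepByAlgSp1 (BasedFunctor.comp (AlgSt.subIncl 𝒳 (inSet B)) f) :=
      repByAlgSp1_comp (isOpenSubstack_inSet h𝒳 hB).2.1.isStack.1 h𝒳.isStack.1
        (repByAlgSp1_of_with (isOpenSubstack_inSet h𝒳 hB).2.2) (repByAlgSp1_of_with hf)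
    refine with_of_cover (respSrc_of_baseChange st.hPb) (schDescent_of_local st.hP) hf₁ hfl hfp hcs ?_
    have hTP := hT.2.1
    rw [← hpre] at hTP
    exact (with_pre_iff h𝒳 h𝒴 (isAlgStack_ofSp Y) c f B).2 hTP
  · intro x hx
    obtain ⟨x₀, rfl⟩ := hσsurj x
    have h1 := hT.2.2 _ (hB'.preimage (continuous_points_map h𝒳 σ)) ((with_pre_iff h𝒳 h𝒴 (isAlgStack_ofSp Y) c f B').1 (repByAlgSpWith_fpFst c h'))
    exact ⟨x₀, h1 hx, rfl⟩

end Groth.Agent.Stk19b.LargestRep
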